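import Groth.Agent.CdPrimeLib.Push

/-!
# Maximal points and irreducible components
-/

set_option autoImplicit false
universe u
open CategoryTheory AlgebraicGeometry TopologicalSpace

namespace CdPrimeLib

theorem closure_mem_irreducibleComponents {X : Scheme.{u}} {x : X} (hx : DivSeqLib.IsMaxPt x) :
    closure ({x} : Set X) ∈ irreducibleComponents (X : Type u) := by
  refine ⟨isIrreducible_singleton.closure, fun Z hZ hle => ?_⟩
  obtain ⟨y, hy⟩ := QuasiSober.sober hZ.closure isClosed_closure
  have h1 : y ⤳ x := hy.specializes (subset_closure (hle (subset_closure rfl)))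
  rw [hx y h1] at hy
  exact subset_closure.trans_eq hy.symm

theorem subsingleton_H_mu {X : Scheme.{u}} [IsNoetherian X] (hdim : topologicalKrullDim X ≤ 1) (n : ℕ) (hn : 0 < n)
    (hcd : ∀ x : X, closure {x} ∈ irreducibleComponents (X : Type u) →
      ∀ l : ℕ, l.Prime → l ∣ n → Dix.CohDimLEAt (Spec (X.residueField x)) l 1)
    (hcl : ∀ x : X, IsClosed ({x} : Set X) → IsSepClosed (X.residueField x)) (q : ℕ) (hq : 2 < q) :
    Subsingleton (EtCoh.H X (EtCoh.mu X n) q) :=
  subsingleton_H_of_killed' hdim (fun z => hcl z.1 z.2) n hn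
    (fun x hx => hcd x (closure_mem_irreducibleComponents hx)) _ (EtKummerLib.nsmul_id_kernel (EtCoh.Gm X) n) q hq

end CdPrimeLib
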